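import Groth.Agent.SpQS.BddFibBridge

/-!
# Degree bounds of fibres: points, residue degrees, composition
-/

universe u

open CategoryTheory CategoryTheory.Limits AlgebraicGeometry IsLocalRing

set_option backward.isDefEq.respectTransparency false

namespace Groth.Agent.BddFibMore

/-- evaluation at a point of an affine scheme whose global sections are finite over a field is surjective -/
theorem gammaEval_surjective {K : Type u} [Field K] (P : Scheme.{u}) [IsAffine P] (φ : CommRingCat.of K ⟶ Γ(P, ⊤))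
    (hfin : φ.hom.Finite) (x : P) : Function.Surjective (P.Γevaluation x) := by
  let R := (P.Γevaluation x).hom.range
  let ψ : K →+* R := (P.Γevaluation x).hom.rangeRestrict.comp φ.hom
  have hψ : ψ.Finite := (RingHom.Finite.of_surjective _ (RingHom.rangeRestrict_surjective _)).comp hfin
  algebraize [ψ]
  have hR : IsField R := isField_of_isIntegral_of_isField' (R := K) (S := R) (Field.toIsField K)
  intro c
  obtain ⟨c, rfl⟩ := IsLocalRing.residue_surjective c
  have hW := isAffineOpen_top P
  let := P.presheaf.algebra_section_stalk (⟨x, trivial⟩ : (⊤ : P.Opens))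
  have := hW.isLocalization_stalk (⟨x, trivial⟩ : (⊤ : P.Opens))
  obtain ⟨⟨b, d⟩, hbd⟩ := IsLocalization.surj (hW.primeIdealOf (⟨x, trivial⟩ : (⊤ : P.Opens))).asIdeal.primeCompl c
  have hu : IsUnit (algebraMap Γ(P, ⊤) (P.presheaf.stalk x) d) := IsLocalization.map_units _ d
  have hd : P.Γevaluation x (d : Γ(P, ⊤)) ≠ 0 := (hu.map (IsLocalRing.residue _)).ne_zero
  obtain ⟨⟨e, a, rfl⟩, he⟩ := hR.mul_inv_cancel (a := (⟨_, (d : Γ(P, ⊤)), rfl⟩ : R))
    (fun h => hd (congrArg Subtype.val h))
  refine ⟨b * a, ?_⟩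
  have h1 : HMul.hMul (α := P.residueField x) (IsLocalRing.residue _ c) (P.Γevaluation x (d : Γ(P, ⊤))) = P.Γevaluation x b :=
    (map_mul (IsLocalRing.residue _) _ _).symm.trans (congrArg (IsLocalRing.residue _) hbd)
  rw [map_mul, ← h1, mul_assoc]
  have he' : P.Γevaluation x (d : Γ(P, ⊤)) * P.Γevaluation x a = 1 := congrArg Subtype.val he
  rw [he']
  exact mul_one _

/-- the residue degrees of a finite scheme over a field add up to at most its degree -/
theorem sum_residueDegree_le {K : Type u} [Field K] {P : Scheme.{u}} (q : P ⟶ Spec (CommRingCat.of K)) [IsFinite q] :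
    Finite P ∧ ∑ᶠ x : P, q.residueDegree x ≤ q.finrank (closedPoint K) := by
  classical
  have hP : Finite P := (SpQS.natCard_le_finrank q).1
  refine ⟨hP, ?_⟩
  have : IsAffine P := isAffine_of_isAffineHom q
  have hdisc := SpQS.discrete_of_isFinite q
  let φ : CommRingCat.of K ⟶ Γ(P, ⊤) := (Scheme.ΓSpecIso _).inv ≫ q.appTop
  have hφ : Spec.map φ = P.isoSpec.inv ≫ q := by
    rw [← Scheme.isoSpec_inv_naturality]
    simp [φ, Scheme.isoSpec_Spec_inv]
  obtain ⟨hA, he⟩ := SpQS.finrank_eq_of_field q φ hφ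
  rw [he]
  have : Fintype P := Fintype.ofFinite P
  rw [finsum_eq_sum_of_fintype]
  let := φ.hom.toAlgebra
  let : ∀ x, Algebra K (P.residueField x) := fun x => (φ ≫ P.Γevaluation x).hom.toAlgebra
  let L : Γ(P, ⊤) →ₗ[K] ∀ x, P.residueField x :=
    LinearMap.pi fun x => { (P.Γevaluation x).hom with
      map_smul' := fun c a => by simp [Algebra.smul_def, RingHom.algebraMap_toAlgebra] }
  have hsur : ∀ x, Function.Surjective (P.Γevaluation x) :=
    fun x => gammaEval_surjective P φ hA x
  have hsep : ∀ x, ∃ a, P.Γevaluation x a ≠ 0 ∧ ∀ y, y ≠ x → P.Γevaluation y a = 0 := by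
    intro x
    obtain ⟨a, ha, hxa⟩ := (isAffineOpen_top P).exists_basicOpen_le
      (V := ⟨{x}, isOpen_discrete _⟩) ⟨x, rfl⟩ trivial
    refine ⟨a, (P.Γevaluation_ne_zero_iff_mem_basicOpen x a).2 hxa, fun y hy => ?_⟩
    by_contra h
    exact hy (ha ((P.Γevaluation_ne_zero_iff_mem_basicOpen y a).1 h))
  have hL : Function.Surjective L := by
    choose a ha ha' using hsep
    intro c
    choose b hb using fun x => hsur x (c x / P.Γevaluation x (a x))
    refine ⟨∑ x, a x * b x, funext fun y => ?_⟩
    show P.Γevaluation y (∑ x, a x * b x) = c y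
    rw [map_sum, Finset.sum_eq_single y (fun x _ hxy => by rw [map_mul, ha' x y hxy.symm, zero_mul])
      (fun h => absurd (Finset.mem_univ y) h), map_mul, hb, mul_div_cancel₀ _ (ha y)]
  have : ∀ x, Module.Finite K (P.residueField x) := fun x =>
    Module.Finite.of_surjective ((LinearMap.proj x).comp L) (fun c => by
      obtain ⟨a, ha⟩ := hsur x c
      exact ⟨a, ha⟩)
  refine le_of_eq_of_le ?_ (LinearMap.finrank_le_finrank_of_surjective hL)
  rw [Module.finrank_pi_fintype]
  refine Finset.sum_congr rfl fun x _ => ?_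
  let := (q.residueFieldMap x).hom.toAlgebra
  let S : Scheme.{u} := Spec (CommRingCat.of K)
  let θ : K →+* S.residueField (q x) := (S.Γevaluation (q x)).hom.comp (Scheme.ΓSpecIso (CommRingCat.of K)).inv.hom
  have hθ : Function.Bijective θ := by
    refine ⟨θ.injective, ?_⟩
    show Function.Surjective ((S.Γevaluation (q x)).hom ∘ (Scheme.ΓSpecIso (CommRingCat.of K)).inv.hom)
    refine Function.Surjective.comp ?_ (Scheme.ΓSpecIso (CommRingCat.of K)).symm.commRingCatIsoToRingEquiv.surjective
    exact gammaEval_surjective S (Scheme.ΓSpecIso _).inv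
      (RingHom.Finite.of_surjective _ (Scheme.ΓSpecIso (CommRingCat.of K)).symm.commRingCatIsoToRingEquiv.surjective) (q x)
  symm
  refine Algebra.finrank_eq_of_equiv_equiv (RingEquiv.ofBijective θ hθ) (RingEquiv.refl _) ?_
  ext c
  exact Scheme.Γevaluation_naturality_apply q x _

/-- a degree bound on fibres bounds the residue degrees over a field valued point -/
theorem finsum_residueDegree_le {X Y : Scheme.{u}} (f : X ⟶ Y) (n : ℕ) (hf : BddFib.FibreDegLE f n)
    {k : Type u} [Field k] (g : Spec (CommRingCat.of k) ⟶ Y) :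
    Finite ↥(pullback f g) ∧ ∑ᶠ x : ↥(pullback f g), (pullback.snd f g).residueDegree x ≤ n := by
  obtain ⟨hq, hd⟩ := (SpQS.bddAt_iff n f g _ _ (IsPullback.of_hasPullback f g)).1
    ((SpQS.fibreDegLE_iff f n).1 hf _)
  obtain ⟨h₁, h₂⟩ := sum_residueDegree_le (pullback.snd f g)
  exact ⟨h₁, h₂.trans hd⟩

/-- degree bounds multiply under composition -/
theorem fibreDegLE_comp {X Y Z : Scheme.{u}} (f : X ⟶ Y) (g : Y ⟶ Z) (n m : ℕ) (hf : BddFib.FibreDegLE f n)
    (hg : BddFib.FibreDegLE g m) : BddFib.FibreDegLE (f ≫ g) (n * m) := by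
  rw [SpQS.fibreDegLE_iff] at hf hg ⊢
  intro z
  let q := pullback.snd g (Z.fromSpecResidueField z)
  let f' := pullback.snd f (pullback.fst g (Z.fromSpecResidueField z))
  have sq₁ := IsPullback.of_hasPullback f (pullback.fst g (Z.fromSpecResidueField z))
  have sq := sq₁.paste_vert (IsPullback.of_hasPullback g (Z.fromSpecResidueField z))
  obtain ⟨hq, hd⟩ := hg z
  have : IsFinite q := hq
  obtain ⟨h₁, h₂⟩ := SpQS.bdd_comp (K := Z.residueField z) q f' (m := n)
    (fun t => (SpQS.bddAt_baseChange n f sq₁ t).2 (hf _))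
  have h := (SpQS.bddAt_iff (n * m) (f ≫ g) (Z.fromSpecResidueField z) _ _ sq).2
    ⟨h₁, h₂.trans (Nat.mul_le_mul_left n hd)⟩
  exact (Z.fromSpecResidueField_apply z (closedPoint (Z.residueField z))) ▸ h

end Groth.Agent.BddFibMore
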